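import Cfsg.Agent.H419.EP.Targets
import Cfsg.Agent.S5663

/-!
# S3499, unitary socles: the assembly of `PsuNonRes` from the geometric classes (helper588, S3499-III-ASM-PSU)

* `Kills C` : the row for the class `C` of subgroups `M` (`m.hat A ≤ M` is impossible);
* `C1a` (totally singular subspaces), `C1b` (nondegenerate subspaces), `C2a`, `C2b` (decompositions), `C5a`, `C5b`, `C5c`
  (subfields), `C6` (symplectic type), `C3` (extension fields), `C4` (tensor products), `C7` (tensor powers): the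
  disjuncts of `Geo.InUnitaryClass`;
* `psuNonRes` : all rows give `PsuNonRes`.
-/

set_option autoImplicit false

namespace Cfsg.Agent.H588.EPU

open Subgroup Cfsg Cfsg.Geo Cfsg.Agent.H284 Cfsg.Agent.H419.EP
open scoped MatrixGroups

/-- a class of subgroups of `GL_n(F)` -/
abbrev Cls := ∀ (F : Type) [Field F] [Fintype F] (n _q : ℕ), Subgroup (GL (Fin n) F) → Prop

/-- **the row of a class** -/
def Kills (C : Cls) : Prop := ∀ {Q : Type} [Group Q] [Finite Q], IsSimpleGroup Q → ∀ {A : Subgroup Q}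
    {Γ : Subgroup (MulAut Q)}, EPT A Γ → ∀ {F : Type} [Field F] [Fintype F] {n q : ℕ}
    (m : Model Q (Cfsg.GU n F q ⊓ Cfsg.Geo.specialLinear (Fin n) F)), Fintype.card F = q ^ 2 → 3 ≤ n →
    ¬ (n = 3 ∧ q = 2) → ¬ (n = 4 ∧ q = 3) → ∀ M : Subgroup (GL (Fin n) F), C F n q M → m.hat A ≤ M → False

theorem Kills.mono {C C' : Cls} (h : Kills C)
    (hC : ∀ (F : Type) [Field F] [Fintype F] (n q : ℕ) (M : Subgroup (GL (Fin n) F)), C' F n q M → C F n q M) :
    Kills C' :=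
  fun hs _ _ he _ _ _ _ _ m h1 h2 h3 h4 M hM => h hs he m h1 h2 h3 h4 M (hC _ _ _ M hM)

theorem Kills.or {C C' : Cls} (h : Kills C) (h' : Kills C') : Kills fun F _ _ n q M => C F n q M ∨ C' F n q M :=
  fun hs _ _ he _ _ _ _ _ m h1 h2 h3 h4 M hM hle =>
    hM.elim (fun hM => h hs he m h1 h2 h3 h4 M hM hle) (fun hM => h' hs he m h1 h2 h3 h4 M hM hle)

/-- totally singular subspaces -/
def C1a : Cls := fun F _ _ n q M => ∃ W : Submodule F (Fin n → F), W ≠ ⊥ ∧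
  IsTotallySingularFor (hermForm n F q) W ∧ M = subspaceStabilizer W ⊓ GU n F q

/-- nondegenerate subspaces -/
def C1b : Cls := fun F _ _ n q M => ∃ W : Submodule F (Fin n → F), W ≠ ⊥ ∧
  IsNondegenerateOn (hermForm n F q) W ∧ 2 * Module.finrank F W < n ∧ M = subspaceStabilizer W ⊓ GU n F q

/-- nondegenerate decompositions -/
def C2a : Cls := fun F _ _ n q M => ∃ (t k : ℕ) (D : Fin t → Submodule F (Fin n → F)),
  IsNondegenerateMDecomposition (hermForm n F q) k D ∧ M = decompositionStabilizer D ⊓ GU n F q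

/-- pairs of totally singular subspaces -/
def C2b : Cls := fun F _ _ n q M => ∃ (k : ℕ) (D : Fin 2 → Submodule F (Fin n → F)), 2 * k = n ∧
  IsMDecomposition k D ∧ (∀ i, IsTotallySingularFor (hermForm n F q) (D i)) ∧
  M = decompositionStabilizer D ⊓ GU n F q

/-- subfields, `GU_n(q₀)` -/
def C5a : Cls := fun F _ _ n q M => ∃ (F₀ : Subfield F) (r : ℕ) (P : GL (Fin n) F), r.Prime ∧ Odd r ∧
  Fintype.card F = Nat.card F₀ ^ r ∧ IsFormRationalStructure (hermForm n F q) F₀ 1 P ∧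
  M = subfieldSubgroup F₀ P ⊓ GU n F q

/-- subfields, `O_n(q)` -/
def C5b : Cls := fun F _ _ n q M => ∃ (F₀ : Subfield F) (P : GL (Fin n) F), Odd q ∧
  Fintype.card F = Nat.card F₀ ^ 2 ∧ IsFormRationalStructure (hermForm n F q) F₀ 1 P ∧
  M = subfieldSubgroup F₀ P ⊓ GU n F q

/-- subfields, `Sp_n(q)` -/
def C5c : Cls := fun F _ _ n q M => ∃ (F₀ : Subfield F) (P : GL (Fin n) F) (ζ : F), Even n ∧
  Fintype.card F = Nat.card F₀ ^ 2 ∧ ζ ≠ 0 ∧ ζ + ζ ^ q = 0 ∧ IsFormRationalStructure (hermForm n F q) F₀ ζ P ∧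
  (∀ u : Fin n → F, (∀ i, u i ∈ F₀) →
    hermForm n F q ((P : Matrix (Fin n) (Fin n) F).mulVec u) ((P : Matrix (Fin n) (Fin n) F).mulVec u) = 0) ∧
  M = subfieldSubgroup F₀ P ⊓ GU n F q

/-- normalisers of groups of symplectic type -/
def C6 : Cls := fun F _ _ n q M => ∃ (r : ℕ) (R : Subgroup (GL (Fin n) F)) (p e k : ℕ), IsSymplecticTypeGroup r R ∧
  ActsAbsolutelyIrreducibly (matrixSet R) ∧ R ≤ similarityGroup (hermForm n F q) ∧ r ≠ p ∧
  IsMinimalFieldFor (Nat.card (Subgroup.center R)) p e F ∧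
  ((Odd r ∧ Nat.card (Subgroup.center R) = r ∧ 1 ≤ k ∧ Nat.card R = r ^ (1 + 2 * k)) ∨
    (r = 2 ∧ e = 2 ∧ Nat.card (Subgroup.center R) = 4 ∧ Nat.card R = 2 ^ (2 + 2 * k))) ∧
  M = subgroupNormalizer R ⊓ GU n F q

/-- extension fields -/
def C3 : Cls := fun F _ _ n q M => ∃ (r : ℕ) (K : Subalgebra F (Matrix (Fin n) (Fin n) F)), r.Prime ∧ Odd r ∧
  IsFieldSubalgebra r K ∧ IsAdjointClosedFor (hermForm n F q) K ∧ M = subalgebraNormalizer K ⊓ GU n F q

/-- tensor products -/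
def C4 : Cls := fun F _ _ n q M => ∃ (n₁ n₂ : ℕ) (e : Fin n ≃ Fin n₁ × Fin n₂) (P : GL (Fin n) F)
  (f₁ : (Fin n₁ → F) → (Fin n₁ → F) → F) (f₂ : (Fin n₂ → F) → (Fin n₂ → F) → F),
  2 ≤ n₁ ∧ n₁ < n₂ ∧ IsUnitaryFormPow q f₁ ∧ IsUnitaryFormPow q f₂ ∧
  IsTensorFormStructure (fun x : F => x ^ q) (hermForm n F q) f₁ f₂ e P ∧
  M = tensorProductSubgroup n₁ n₂ e P ⊓ GU n F q

/-- tensor powers -/
def C7 : Cls := fun F _ _ n q M => ∃ (k t : ℕ) (e : Fin n ≃ (Fin t → Fin k)) (P : GL (Fin n) F)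
  (f₁ : (Fin k → F) → (Fin k → F) → F), 3 ≤ k ∧ 2 ≤ t ∧ ¬ (q = 2 ∧ k = 3) ∧ IsUnitaryFormPow q f₁ ∧
  IsTensorPowerFormStructure (fun x : F => x ^ q) (hermForm n F q) f₁ e P ∧
  M = tensorWreathSubgroup k t e P ⊓ GU n F q

/-- the whole union -/
theorem psuNonRes_of (h : Kills fun F _ _ n q M => InUnitaryClass n F q M) : PsuNonRes := by
  intro Q _ _ hs A Γ he F _ _ n q m hF hn h1 h2 hr
  rcases Cfsg.Agent.S5663.result n q hF hn h1 (m.hat A) (m.hat_le A) (m.sup_ne he.max) with ⟨M, hM, hle⟩ | h3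
  · exact h hs he m hF hn h1 h2 M hM hle
  · exact hr h3

/-- **the assembly** -/
theorem psuNonRes (h1a : Kills C1a) (h1b : Kills C1b) (h2a : Kills C2a) (h2b : Kills C2b) (h5a : Kills C5a)
    (h5b : Kills C5b) (h5c : Kills C5c) (h6 : Kills C6) (h3 : Kills C3) (h4 : Kills C4) (h7 : Kills C7) :
    PsuNonRes := by
  apply psuNonRes_of
  intro Q _ _ hs A Γ he F _ _ n q m hF hn e1 e2 M hM hle
  rcases hM with (hM | hM | hM | hM | hM | hM | hM | hM) | hM | hM | hM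
  · exact h1a hs he m hF hn e1 e2 M hM hle
  · exact h1b hs he m hF hn e1 e2 M hM hle
  · exact h2a hs he m hF hn e1 e2 M hM hle
  · exact h2b hs he m hF hn e1 e2 M hM hle
  · exact h5a hs he m hF hn e1 e2 M hM hle
  · exact h5b hs he m hF hn e1 e2 M hM hle
  · exact h5c hs he m hF hn e1 e2 M hM hle
  · exact h6 hs he m hF hn e1 e2 M hM hle
  · exact h3 hs he m hF hn e1 e2 M hM hle
  · exact h4 hs he m hF hn e1 e2 M hM hle
  · exact h7 hs he m hF hn e1 e2 M hM hle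

end Cfsg.Agent.H588.EPU
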